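import Cfsg.Agent.R2.Spec.X1.TI.Sit
import Cfsg.Agent.OddCyclic.ClaimC.SzIso
import Cfsg.Agent.S2238
import Cfsg.Agent.S1159

/-!
# Rows `Sz(u)` and `Ree(u)` for the recognition of `³D₄(q)` by spectrum (helper488, for S3478)
-/

set_option autoImplicit false
set_option linter.unusedSectionVars false

namespace Cfsg.Agent.R2.Spec.X1.TRe

open Cfsg Cfsg.Lie
open Cfsg.Agent.R2.Spec.X1.TI Cfsg.Agent.R2.Spec.X1.TD

universe v

/-- **Row `Sz(u)`.** -/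
theorem row_sz {p q : ℕ} {F : Type v} [Field F] [Fintype F] {m : ℕ} (hm : 1 ≤ m) (hF : Fintype.card F = 2 ^ (2 * m + 1))
    (h : Sit p q ↥(Lie.Sz F (2 ^ (m + 1)))) : False := by
  have hP := h.par
  obtain ⟨e⟩ := Cfsg.Agent.OddCyclic.ClaimC.SzIso.iso hm hF
  have h := h.congr e.symm
  have hfin : Finite ↥(Cfsg.Sz F m) := inferInstance
  obtain ⟨x, hx⟩ := h.mm
  have hn73 := mm_ge hP
  have hodd := mm_odd hP
  have hmod := mm_mod hP
  have hx1 : x ≠ 1 := by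
    rintro rfl
    rw [orderOf_one] at hx
    omega
  obtain ⟨U, ⟨hU, hxU⟩, -⟩ := Cfsg.Agent.S2238.result hm hF x hx1
  have hdU : R2.Spec.X1.TD.mm q ∣ Nat.card ↥U := by
    rw [← hx, ← Subgroup.orderOf_mk _ hxU]
    exact orderOf_dvd_natCard _
  rcases hU with ⟨P, rfl⟩ | ⟨hc, hN⟩
  · obtain ⟨k, hk⟩ := IsPGroup.iff_card.1 P.isPGroup'
    rw [hk] at hdU
    have h1 : Nat.Coprime (R2.Spec.X1.TD.mm q) (2 ^ k) := (Nat.coprime_two_right.2 hodd).pow_right k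
    have h2 := h1.eq_one_of_dvd hdU
    omega
  · obtain ⟨s, hs, hsn, hs13, hsc⟩ := h.exists_prime
    obtain ⟨c, hc⟩ := hc.exists_generator
    have hc' : orderOf (c : ↥(Cfsg.Sz F m)) = Nat.card ↥U := by
      rw [Subgroup.orderOf_coe]
      exact orderOf_eq_card_of_forall_mem_zpowers hc
    have hUn : Nat.card ↥U = R2.Spec.X1.TD.mm q :=
      Nat.dvd_antisymm (h.dvd_mm ⟨_, hc'⟩ hs (hsn.trans hdU) hsn) hdU
    rw [hUn] at hN
    have e1 : 2 ^ (2 * m + 1) = 2 * (2 ^ m) ^ 2 := by ring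
    have e2 : 2 ^ (m + 1) = 2 * 2 ^ m := by ring
    have hw : 2 ≤ 2 ^ m := by
      calc 2 = 2 ^ 1 := rfl
        _ ≤ 2 ^ m := Nat.pow_le_pow_right (by norm_num) hm
    have h2w : 2 ∣ 2 ^ m := dvd_pow_self 2 (by omega)
    rw [e1, e2] at hN
    generalize 2 ^ m = w at *
    have hww : 2 * w ≤ w ^ 2 := by nlinarith
    have h4 : 4 ∣ w ^ 2 := by
      have := pow_dvd_pow_of_dvd h2w 2
      exact this
    rcases hN with hN | hN | hN
    · omega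
    · refine ne_half hP (2 * w + 1) ?_
      rw [hN]
      ring
    · refine ne_half hP (2 * w - 1) ?_
      rw [hN]
      obtain ⟨t, rfl⟩ : ∃ t, w = t + 1 := ⟨w - 1, by omega⟩
      have e3 : 2 * (t + 1) ^ 2 - 2 * (t + 1) + 1 = 2 * t ^ 2 + 2 * t + 1 := by
        have : 2 * (t + 1) ^ 2 = 2 * t ^ 2 + 2 * t + 2 * (t + 1) := by ring
        omega
      have e4 : 2 * (t + 1) - 1 = 2 * t + 1 := by omega
      rw [e3, e4]
      ring

/-- `n = 3 w (w ± 1) + 1`, `w` a power of 3, is impossible -/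
theorem ne_ree {p q m P : ℕ} (hP : Par p q) (hm : 1 ≤ m) (hPw : P = 3 ^ m + 1 ∨ P = 3 ^ m - 1) :
    R2.Spec.X1.TD.mm q ≠ 3 ^ (m + 1) * P + 1 := by
  intro h1
  have h3w : 3 ∣ 3 ^ m := dvd_pow_self 3 (by omega)
  have hw : 3 ≤ 3 ^ m := by
    calc 3 = 3 ^ 1 := rfl
      _ ≤ 3 ^ m := Nat.pow_le_pow_right (by norm_num) hm
  have hco : Nat.Coprime (3 ^ (m + 1)) P := by
    refine Nat.Coprime.pow_left _ ((Nat.Prime.coprime_iff_not_dvd Nat.prime_three).2 ?_)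
    rcases hPw with rfl | rfl <;> omega
  have h2 := mm_eq hP.hq
  have hq9 : 9 ≤ q ^ 2 := by nlinarith [hP.hq]
  rcases split hP (Nat.prime_three.isPrimePow.pow (by omega)) hco h1 with ⟨h3, h4⟩ | ⟨c, hc⟩
  · have e2 : 3 ^ (m + 1) = 3 * 3 ^ m := by ring
    rw [e2] at h3
    rcases hPw with h5 | h5 <;> omega
  · have e2 : 3 ^ (m + 1) = 3 * 3 ^ m := by ring
    have hc0 : c ≠ 0 := by
      rintro rfl
      rcases hPw with h5 | h5 <;> omega
    have h5 : q ^ 2 ≤ P := hc ▸ Nat.le_mul_of_pos_right _ (by omega)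
    have h6 : q ^ 2 * (q ^ 2 - 1) = 3 ^ (m + 1) * P := by omega
    have h7 : q ^ 2 - 1 < 3 ^ (m + 1) := by
      rw [e2]
      rcases hPw with h7 | h7 <;> omega
    have h8 : q ^ 2 * (q ^ 2 - 1) < P * 3 ^ (m + 1) := by
      calc q ^ 2 * (q ^ 2 - 1) < q ^ 2 * 3 ^ (m + 1) := Nat.mul_lt_mul_of_pos_left h7 (by omega)
        _ ≤ P * 3 ^ (m + 1) := Nat.mul_le_mul_right _ h5
    rw [h6, mul_comm] at h8
    exact lt_irrefl _ h8

/-- **Row `Ree(u)`.** -/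
theorem row_ree {p q : ℕ} {K : Type v} [Field K] [Fintype K] {m : ℕ} (hm : 1 ≤ m) (hF : Fintype.card K = 3 ^ (2 * m + 1))
    (h : Sit p q ↥(Lie.twistedG2 K (3 ^ m))) : False := by
  have hP := h.par
  have hfin : Finite ↥(Cfsg.Lie.twistedG2 K (3 ^ m)) := inferInstance
  have hn73 := mm_ge hP
  have hodd := mm_odd hP
  rw [Nat.odd_iff] at hodd
  obtain ⟨s, hs, hsn, hs13, hsc⟩ := h.exists_prime
  have hS := Cfsg.Agent.S1159.result hm hF
  have key : ∀ N : ℕ, (∃ g : ↥(Cfsg.Lie.twistedG2 K (3 ^ m)), orderOf g = N) → R2.Spec.X1.TD.mm q ∣ N → N = R2.Spec.X1.TD.mm q :=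
    fun N hN hd => Nat.dvd_antisymm (h.dvd_mm hN hs (hsn.trans hd) hsn) hd
  have hu4 : 3 ^ (2 * m + 1) % 4 = 3 := by
    rw [pow_succ, pow_mul, Nat.mul_mod, Nat.pow_mod]
    norm_num
  have e1 : 3 ^ (2 * m + 1) = 3 ^ (m + 1) * 3 ^ m := by rw [← pow_add]; congr 1; omega
  have hw : 3 ≤ 3 ^ m := by
    calc 3 = 3 ^ 1 := rfl
      _ ≤ 3 ^ m := Nat.pow_le_pow_right (by norm_num) hm
  rcases (hS _).1 h.mm with h1 | h1 | h1 | h1 | h1 | h1
  · have := Nat.le_of_dvd (by norm_num) h1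
    omega
  · have := Nat.le_of_dvd (by norm_num) h1
    omega
  · have h2 := key _ ((hS _).2 (Or.inr (Or.inr (Or.inl dvd_rfl)))) h1
    omega
  · have h2 := key _ ((hS _).2 (Or.inr (Or.inr (Or.inr (Or.inl dvd_rfl))))) h1
    omega
  · have h2 := key _ ((hS _).2 (Or.inr (Or.inr (Or.inr (Or.inr (Or.inl dvd_rfl)))))) h1
    refine ne_ree hP hm (Or.inr rfl) ?_
    rw [← h2, e1, Nat.mul_sub, mul_one]
  · have h2 := key _ ((hS _).2 (Or.inr (Or.inr (Or.inr (Or.inr (Or.inr dvd_rfl)))))) h1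
    refine ne_ree hP hm (Or.inl rfl) ?_
    rw [← h2, e1, Nat.mul_add, mul_one]

end Cfsg.Agent.R2.Spec.X1.TRe
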